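import Mathlib

/-!
# Generic fibres of a map to affine space of the same dimension are finite
-/

set_option autoImplicit false
universe u v

open MvPolynomial

namespace Groth.MovLem.GenCoord

/-- The values at which an affine function is non-zero contain a principal open. -/
theorem exists_poly_affine {k : Type u} [Field k] {W : Type v} [AddCommGroup W] [Module k W] {N : ℕ}
    (w0 : W) (w : Fin N → W) (c₀ : Fin N → k) (h : w0 + ∑ j, c₀ j • w j ≠ 0) :
    ∃ P : MvPolynomial (Fin N) k, P ≠ 0 ∧
      ∀ c : Fin N → k, eval c P ≠ 0 → w0 + ∑ j, c j • w j ≠ 0 := by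
  obtain ⟨l, hl⟩ : ∃ l : W →ₗ[k] k, l (w0 + ∑ j, c₀ j • w j) ≠ 0 := by
    by_contra hall
    push Not at hall
    exact h ((Module.forall_dual_apply_eq_zero_iff k _).1 hall)
  have heval : ∀ c : Fin N → k,
      eval c (C (l w0) + ∑ j, X j * C (l (w j))) = l (w0 + ∑ j, c j • w j) := fun c => by
    simp [map_sum]
  refine ⟨C (l w0) + ∑ j, X j * C (l (w j)), fun h0 => hl ?_, fun c hc h0 => hc ?_⟩
  · rw [← heval, h0, map_zero]
  · rw [heval, h0, map_zero]

/-- Finitely many non-zero polynomials have a common non-zero value over an infinite field. -/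
theorem exists_forall_eval_ne_zero {k : Type u} [Field k] [Infinite k] {N : ℕ} {ι : Type v} [Fintype ι]
    (P : ι → MvPolynomial (Fin N) k) (hP : ∀ i, P i ≠ 0) : ∃ c : Fin N → k, ∀ i, eval c (P i) ≠ 0 := by
  have h : ∏ i, P i ≠ 0 := Finset.prod_ne_zero_iff.2 fun i _ => hP i
  by_contra hall
  push Not at hall
  refine h (MvPolynomial.funext fun c => ?_)
  obtain ⟨i, hi⟩ := hall c
  rw [map_zero, map_prod]
  exact Finset.prod_eq_zero (Finset.mem_univ i) hi

/-- A single component. -/
theorem exists_ne_zero_fibre_finite_domain {k R : Type u} [Field k] [CommRing R] [Algebra k R]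
    [Algebra.FiniteType k R] {N : ℕ} (y : Fin N → R) (P : Ideal R) [P.IsPrime]
    (hP : Algebra.trdeg k (R ⧸ P) ≤ N) :
    ∃ H : MvPolynomial (Fin N) k, H ≠ 0 ∧ ∀ c : Fin N → k, eval c H ≠ 0 →
      Module.Finite k (R ⧸ (P ⊔ Ideal.span (Set.range fun i => y i - algebraMap k R (c i)))) := by
  classical
  let S := R ⧸ P
  let ys : Fin N → S := fun i => Ideal.Quotient.mk P (y i)
  let J : (Fin N → k) → Ideal R := fun c => P ⊔ Ideal.span (Set.range fun i => y i - algebraMap k R (c i))
  let q : ∀ c, S →ₐ[k] R ⧸ J c := fun c => Ideal.Quotient.factorₐ k (show P ≤ J c from le_sup_left)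
  have hq : ∀ c, Function.Surjective (q c) := fun c => Ideal.Quotient.factor_surjective (show P ≤ J c from le_sup_left)
  have hqy : ∀ c (p : MvPolynomial (Fin N) k), q c (aeval ys p) = algebraMap k _ (eval c p) := by
    intro c p
    have hy : ∀ i, q c (ys i) = algebraMap k _ (c i) := fun i => by
      show Ideal.Quotient.mk (J c) (y i) = Ideal.Quotient.mk (J c) (algebraMap k R (c i))
      exact Ideal.Quotient.eq.2 ((le_sup_right : _ ≤ J c) (Ideal.subset_span ⟨i, rfl⟩))
    rw [← AlgHom.comp_apply, comp_aeval, funext hy]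
    induction p using MvPolynomial.induction_on with
    | C a => simp
    | add p₁ p₂ h₁ h₂ => rw [map_add, h₁, h₂, map_add, map_add]
    | mul_X p i h => rw [map_mul, h, aeval_X, map_mul, eval_X, map_mul]
  by_cases hind : AlgebraicIndependent k ys
  · have halg : Algebra.IsAlgebraic (Algebra.adjoin k (Set.range ys)) S :=
      (hind.isTranscendenceBasis_of_lift_trdeg_le_of_finite (by
        rw [Cardinal.mk_fin, Cardinal.lift_natCast, Cardinal.lift_le_nat_iff]; exact hP)).isAlgebraic
    obtain ⟨t, ht⟩ := (inferInstance : Algebra.FiniteType k S).out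
    have hlift : ∀ s : S, ∃ p : Polynomial (MvPolynomial (Fin N) k),
        p ≠ 0 ∧ Polynomial.eval₂ (aeval (R := k) ys).toRingHom s p = 0 := by
      intro s
      obtain ⟨p, hp0, hp⟩ := halg.isAlgebraic s
      let e := hind.aevalEquiv
      refine ⟨p.map e.symm.toRingHom, fun h0 => hp0 ?_, ?_⟩
      · exact Polynomial.map_injective _ e.symm.injective (h0.trans (Polynomial.map_zero _).symm)
      · rw [Polynomial.eval₂_map]
        refine Eq.trans ?_ hp
        rw [Polynomial.aeval_def]
        congr 1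
        refine RingHom.ext fun x => ?_
        exact (hind.algebraMap_aevalEquiv (e.symm x)).symm.trans (congrArg _ (e.apply_symm_apply x))
    choose p hp0 hp using hlift
    refine ⟨∏ s ∈ t, (p s).leadingCoeff,
      Finset.prod_ne_zero_iff.2 fun s _ => Polynomial.leadingCoeff_ne_zero.2 (hp0 s), fun c hc => ?_⟩
    rw [map_prod, Finset.prod_ne_zero_iff] at hc
    have hint : ∀ s ∈ t, IsIntegral k (q c s) := by
      intro s hs
      let pc : Polynomial k := (p s).map (eval c)
      have hlc : pc.leadingCoeff ≠ 0 := by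
        rw [Polynomial.leadingCoeff_map_of_leadingCoeff_ne_zero _ (hc s hs)]
        exact hc s hs
      have hpc : Polynomial.aeval (q c s) pc = 0 := by
        rw [Polynomial.aeval_def, Polynomial.eval₂_map]
        have h1 := congrArg (q c) (hp s)
        rw [map_zero] at h1
        refine Eq.trans ?_ h1
        refine Eq.trans ?_ (Polynomial.hom_eval₂ (p s) _ (q c).toRingHom s).symm
        congr 1
        exact RingHom.ext fun x => (hqy c x).symm
      exact (IsAlgebraic.isIntegral ⟨pc, Polynomial.leadingCoeff_ne_zero.1 hlc, hpc⟩)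
    have htop : Algebra.adjoin k ((t.image (q c) : Finset _) : Set (R ⧸ J c)) = ⊤ := by
      rw [Finset.coe_image, ← AlgHom.map_adjoin, ht, Algebra.map_top, AlgHom.range_eq_top]
      exact hq c
    have hfg := fg_adjoin_of_finite (R := k) (t.image (q c)).finite_toSet (by
      intro x hx
      obtain ⟨s, hs, rfl⟩ := Finset.mem_image.1 hx
      exact hint s hs)
    rw [htop, Algebra.top_toSubmodule] at hfg
    exact ⟨hfg⟩
  · obtain ⟨H, hH, hH0⟩ : ∃ H : MvPolynomial (Fin N) k, aeval ys H = 0 ∧ H ≠ 0 := by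
      rw [algebraicIndependent_iff] at hind
      push Not at hind
      exact hind
    refine ⟨H, hH0, fun c hc => ?_⟩
    have h1 : (0 : R ⧸ J c) = algebraMap k _ (eval c H) := by rw [← hqy, hH, map_zero]
    have h2 : (1 : R ⧸ J c) = 0 := by
      have h3 := congrArg (algebraMap k (R ⧸ J c) (eval c H)⁻¹ * ·) h1
      simp only [mul_zero] at h3
      rw [← map_mul, inv_mul_cancel₀ hc, map_one] at h3
      exact h3.symm
    have : Subsingleton (R ⧸ J c) := subsingleton_of_zero_eq_one h2.symm
    exact inferInstanceAs (Module.Finite k (R ⧸ J c))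

/-- Generic fibres of `y : Spec R ⟶ 𝔸^N` are finite sets of closed points if all components have
transcendence degree at most `N`. -/
theorem exists_ne_zero_fibre_finite {k R : Type u} [Field k] [CommRing R] [Algebra k R]
    [Algebra.FiniteType k R] {N : ℕ} (y : Fin N → R)
    (h : ∀ P : Ideal R, P.IsPrime → Algebra.trdeg k (R ⧸ P) ≤ N) :
    ∃ H : MvPolynomial (Fin N) k, H ≠ 0 ∧ ∀ c : Fin N → k, eval c H ≠ 0 →
      {Q : Ideal R | Q.IsPrime ∧ ∀ i, y i - algebraMap k R (c i) ∈ Q}.Finite ∧
      ∀ Q : Ideal R, Q.IsPrime → (∀ i, y i - algebraMap k R (c i) ∈ Q) → Module.Finite k (R ⧸ Q) := by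
  classical
  have : IsNoetherianRing R := Algebra.FiniteType.isNoetherianRing k R
  have hfinP : (minimalPrimes R).Finite := minimalPrimes.finite_of_isNoetherianRing R
  choose H hH0 hH using fun P : minimalPrimes R =>
    haveI : P.1.IsPrime := P.2.1.1
    exists_ne_zero_fibre_finite_domain y P.1 (h P.1 P.2.1.1)
  have : Fintype (minimalPrimes R) := hfinP.fintype
  refine ⟨∏ P, H P, Finset.prod_ne_zero_iff.2 fun P _ => hH0 P, fun c hc => ?_⟩
  rw [map_prod, Finset.prod_ne_zero_iff] at hc
  let J : minimalPrimes R → Ideal R := fun P =>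
    P.1 ⊔ Ideal.span (Set.range fun i => y i - algebraMap k R (c i))
  have hJ : ∀ Q : Ideal R, Q.IsPrime → (∀ i, y i - algebraMap k R (c i) ∈ Q) →
      ∃ P, J P ≤ Q := by
    intro Q hQ hmem
    obtain ⟨P, hP, hPQ⟩ := Ideal.exists_minimalPrimes_le (bot_le (a := Q))
    exact ⟨⟨P, hP⟩, sup_le hPQ (Ideal.span_le.2 (by rintro _ ⟨i, rfl⟩; exact hmem i))⟩
  have hF : ∀ P, Module.Finite k (R ⧸ J P) := fun P => hH P c (hc P (Finset.mem_univ P))
  refine ⟨?_, fun Q hQ hmem => ?_⟩
  · have hfin : ∀ P, {Q : Ideal R | Q.IsPrime ∧ J P ≤ Q}.Finite := by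
      intro P
      have := hF P
      have : IsArtinianRing (R ⧸ J P) := IsArtinianRing.of_finite k _
      refine (Set.finite_range fun Q : PrimeSpectrum (R ⧸ J P) =>
        Ideal.comap (Ideal.Quotient.mk (J P)) Q.asIdeal).subset ?_
      rintro Q ⟨hQ, hle⟩
      refine ⟨⟨Q.map (Ideal.Quotient.mk (J P)), Ideal.map_isPrime_of_surjective Ideal.Quotient.mk_surjective
        (by rwa [Ideal.mk_ker])⟩, ?_⟩
      show Ideal.comap _ (Ideal.map _ Q) = Q
      rw [Ideal.comap_map_of_surjective _ Ideal.Quotient.mk_surjective, ← RingHom.ker_eq_comap_bot,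
        Ideal.mk_ker, sup_eq_left.2 hle]
    refine (Set.finite_iUnion hfin).subset ?_
    rintro Q ⟨hQ, hmem⟩
    obtain ⟨P, hP⟩ := hJ Q hQ hmem
    exact Set.mem_iUnion.2 ⟨P, hQ, hP⟩
  · obtain ⟨P, hP⟩ := hJ Q hQ hmem
    have := hF P
    exact Module.Finite.of_surjective (Ideal.Quotient.factorₐ k hP).toLinearMap
      (Ideal.Quotient.factor_surjective hP)

end Groth.MovLem.GenCoord
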