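import Mathlib
import Groth.Agent.SmoothSlice.Coords
import Groth.Agent.MovLem.GenericFinite

/-!
# The critical locus of a generic linear form is finite
-/

set_option autoImplicit false
universe u

open MvPolynomial

namespace Groth.MovLem.GenCoord

theorem trdeg_le_of_isAlgebraic_generators {k S : Type u} [Field k] [CommRing S] [IsDomain S]
    [Algebra k S] (s : Set S) (T : Set S) (hT : Algebra.adjoin k T = ⊤)
    (h : ∀ t ∈ T, IsAlgebraic (Algebra.adjoin k s) t) : Algebra.trdeg k S ≤ Cardinal.mk s := by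
  have : Algebra.IsAlgebraic (Algebra.adjoin k s) S := by
    refine ⟨fun x => ?_⟩
    have hle : Algebra.adjoin k T ≤
        (Subalgebra.algebraicClosure (Algebra.adjoin k s) S).restrictScalars k :=
      Algebra.adjoin_le fun t ht => h t ht
    exact hle (hT ▸ Algebra.mem_top : x ∈ Algebra.adjoin k T)
  exact Algebra.IsAlgebraic.trdeg_le_cardinalMk k s

theorem isAlgebraic_image_of_quasiFinite {k R' B S : Type u} [Field k] [CommRing R'] [Algebra k R']
    [CommRing B] [Algebra R' B] [Algebra.QuasiFinite R' B] [CommRing S] [IsDomain S] [Algebra k S]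
    (φ : B →+* S) (A₀ : Subalgebra k S) (hA : ∀ r, φ (algebraMap R' B r) ∈ A₀) (b : B) :
    IsAlgebraic A₀ (φ b) := by
  let P := RingHom.ker φ
  have : P.IsPrime := RingHom.ker_isPrime φ
  let p0 := Ideal.comap (algebraMap R' B) P
  have : p0.IsPrime := inferInstance
  let K0 := p0.ResidueField
  let K := P.ResidueField
  letI : Algebra K0 K := (Ideal.ResidueField.map p0 P (algebraMap R' B) rfl).toAlgebra
  have hmap : (algebraMap K0 K).comp (algebraMap R' K0) =
      (algebraMap B K).comp (algebraMap R' B) := RingHom.ext fun r => by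
    show Ideal.ResidueField.map p0 P (algebraMap R' B) rfl (algebraMap R' K0 r) = _
    exact Ideal.ResidueField.map_algebraMap ..
  have : IsScalarTower R' K0 K := IsScalarTower.of_algebraMap_eq fun r => by
    rw [IsScalarTower.algebraMap_apply R' B K]
    exact (RingHom.congr_fun hmap r).symm
  have : Algebra.QuasiFinite K0 K := Algebra.QuasiFinite.of_restrictScalars R' K0 K
  have : Module.Finite K0 K := Module.Finite.of_quasiFinite
  letI : Algebra (R' ⧸ p0) K := ((algebraMap K0 K).comp (algebraMap (R' ⧸ p0) K0)).toAlgebra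
  have : IsScalarTower (R' ⧸ p0) K0 K := IsScalarTower.of_algebraMap_eq' rfl
  have halg : IsAlgebraic (R' ⧸ p0) (algebraMap B K b) :=
    (IsFractionRing.isAlgebraic_iff (R' ⧸ p0) K0 K).2 (Algebra.IsAlgebraic.isAlgebraic _)
  obtain ⟨f, hf0, hf⟩ := halg
  let j : (R' ⧸ p0) →+* A₀ := Ideal.Quotient.lift p0
    ((φ.comp (algebraMap R' B)).codRestrict A₀.toSubring hA) fun r hr => Subtype.ext hr
  have hj : Function.Injective j := by
    refine (injective_iff_map_eq_zero j).2 fun x hx => ?_
    obtain ⟨r, rfl⟩ := Ideal.Quotient.mk_surjective x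
    exact Ideal.Quotient.eq_zero_iff_mem.2 (congrArg Subtype.val hx :)
  refine ⟨f.map j, fun h => hf0 (Polynomial.map_injective _ hj (h.trans (Polynomial.map_zero _).symm)), ?_⟩
  obtain ⟨g, rfl⟩ := Polynomial.map_surjective (Ideal.Quotient.mk p0) Ideal.Quotient.mk_surjective f
  rw [Polynomial.aeval_def, Polynomial.eval₂_map] at hf
  rw [Polynomial.aeval_def, Polynomial.eval₂_map, Polynomial.eval₂_map]
  have h1 : Polynomial.eval₂ (algebraMap R' B) b g ∈ P := by
    rw [← Ideal.algebraMap_residueField_eq_zero (I := P), Polynomial.hom_eval₂]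
    refine Eq.trans ?_ hf
    congr 1
    refine RingHom.ext fun r => ?_
    exact (RingHom.congr_fun hmap r).symm.trans
      (IsScalarTower.algebraMap_apply (R' ⧸ p0) K0 K (Ideal.Quotient.mk p0 r)).symm
  have h2 : φ (Polynomial.eval₂ (algebraMap R' B) b g) = 0 := h1
  rw [Polynomial.hom_eval₂] at h2
  exact h2

/-- `q` is critical for `l`: some field-valued point at `q` sees no derivation moving `l`. -/
def IsCrit (k : Type u) [CommRing k] {B : Type u} [CommRing B] [Algebra k B] (l : B) (q : Ideal B) :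
    Prop :=
  ∃ (K : Type u) (_ : Field K) (_ : Algebra k K) (_ : Algebra B K) (_ : IsScalarTower k B K),
    RingHom.ker (algebraMap B K) = q ∧ ∀ D : Derivation k B K, D l = 0

theorem trdeg_chart_le {k B : Type u} [Field k] [CommRing B] [Algebra k B] {N : ℕ}
    {κ : Type u} [Fintype κ] (hκ : Fintype.card κ ≤ N) [Algebra (MvPolynomial κ k) B]
    [IsScalarTower k (MvPolynomial κ k) B] [Algebra.QuasiFinite (MvPolynomial κ k) B]
    {τ : Type u} [Fintype τ] (hτ : Fintype.card κ + Fintype.card τ ≤ N)
    (P : Ideal (MvPolynomial τ B)) [P.IsPrime] : Algebra.trdeg k (MvPolynomial τ B ⧸ P) ≤ N := by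
  classical
  let S := MvPolynomial τ B ⧸ P
  let mkP := Ideal.Quotient.mkₐ k P
  let φ : B →ₐ[k] S := mkP.comp (IsScalarTower.toAlgHom k B (MvPolynomial τ B))
  let gens : κ ⊕ τ → S := Sum.elim (fun i => φ (algebraMap (MvPolynomial κ k) B (X i))) (fun t => mkP (X t))
  have h : Algebra.trdeg k S ≤ Cardinal.mk (Set.range gens) := by
    refine trdeg_le_of_isAlgebraic_generators _ (Set.range φ ∪ Set.range fun t => mkP (X t)) ?_ ?_
    · refine top_le_iff.1 fun x _ => ?_
      obtain ⟨p, rfl⟩ := Ideal.Quotient.mkₐ_surjective k P x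
      induction p using MvPolynomial.induction_on with
      | C a => exact Algebra.subset_adjoin (Or.inl ⟨a, rfl⟩)
      | add p q hp hq => rw [map_add]; exact add_mem (hp trivial) (hq trivial)
      | mul_X p i hp => rw [map_mul]; exact mul_mem (hp trivial) (Algebra.subset_adjoin (Or.inr ⟨i, rfl⟩))
    · rintro t (⟨b, rfl⟩ | ⟨i, rfl⟩)
      · refine isAlgebraic_image_of_quasiFinite (R' := MvPolynomial κ k) φ.toRingHom _ (fun r => ?_) b
        induction r using MvPolynomial.induction_on with
        | C a =>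
          show φ (algebraMap (MvPolynomial κ k) B (algebraMap k _ a)) ∈ _
          rw [← IsScalarTower.algebraMap_apply, AlgHom.commutes]
          exact Subalgebra.algebraMap_mem _ a
        | add p q hp hq => rw [map_add, map_add]; exact add_mem hp hq
        | mul_X p i hp =>
          rw [map_mul, map_mul]
          exact mul_mem hp (Algebra.subset_adjoin ⟨Sum.inl i, rfl⟩)
      · exact isAlgebraic_algebraMap (A := S)
          (⟨_, Algebra.subset_adjoin ⟨Sum.inr i, rfl⟩⟩ : Algebra.adjoin k (Set.range gens))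
  refine h.trans (Cardinal.mk_range_le.trans ?_)
  rw [Cardinal.mk_fintype, Fintype.card_sum]
  exact_mod_cast hτ

/-- The chart statement: on a smooth algebra, near each prime, the critical locus of a generic linear
form in detecting functions is finite. -/
theorem exists_chart_crit_finite {k B : Type u} [Field k] [CommRing B] [Algebra k B]
    [Algebra.Smooth k B] {N : ℕ} (a : Fin N → B)
    (hdet : ∀ (q : Ideal B) [q.IsPrime] (D : Derivation k B q.ResidueField),
      (∀ j, D (a j) = 0) → D = 0) (q₀ : Ideal B) [q₀.IsPrime] :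
    ∃ (b : B) (H : MvPolynomial (Fin N) k), b ∉ q₀ ∧ H ≠ 0 ∧ ∀ c : Fin N → k, eval c H ≠ 0 →
      {q : Ideal B | q.IsPrime ∧ b ∉ q ∧ IsCrit k (∑ j, c j • a j) q}.Finite ∧
      ∀ q : Ideal B, q.IsPrime → b ∉ q → IsCrit k (∑ j, c j • a j) q → q.IsMaximal := by
  classical
  obtain ⟨κ, hκf, x, b, hx, hb, het⟩ := Groth.SmoothSlice.exists_etale_coords (A := k) q₀ (Set.range a)
    fun D hD => hdet q₀ D fun j => hD _ ⟨j, rfl⟩
  let _ : Fintype κ := Fintype.ofFinite κ
  let B' := Localization.Away b
  let f := ((algebraMap B B').comp (MvPolynomial.aeval (R := k) x).toRingHom)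
  letI : Algebra (MvPolynomial κ k) B' := f.toAlgebra
  have : IsScalarTower k (MvPolynomial κ k) B' := IsScalarTower.of_algebraMap_eq fun r => by
    show algebraMap k B' r = algebraMap B B' (aeval x (algebraMap k (MvPolynomial κ k) r))
    rw [AlgHom.commutes]
    exact IsScalarTower.algebraMap_apply k B B' r
  have : Algebra.Etale (MvPolynomial κ k) B' := het
  have : Nontrivial B' := by
    refine nontrivial_of_ne 1 0 fun h => hb ?_
    obtain ⟨⟨m, n, rfl⟩, hm⟩ := (IsLocalization.map_eq_zero_iff (Submonoid.powers b) B' 1).1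
      (by rw [map_one, h])
    simp only [mul_one] at hm
    exact Ideal.IsPrime.mem_of_pow_mem ‹_› n (hm ▸ q₀.zero_mem)
  have : Algebra.FormallySmooth k B' :=
    Algebra.FormallySmooth.comp k (MvPolynomial κ k) B'
  obtain ⟨hli, hsp⟩ :=
    (Groth.Agent.EtaleAlgebra.EtaleCoord.formallyEtale_iff_linearIndependent_span k B' κ).1 inferInstance
  let e := Module.Basis.mk hli hsp.ge
  let pd : κ → Derivation k B' B' := fun i => (e.coord i).compDer (KaehlerDifferential.D k B')
  choose σ hσ using hx
  have hxσ : ∀ i, algebraMap (MvPolynomial κ k) B' (X i) = algebraMap B B' (a (σ i)) := fun i => by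
    show algebraMap B B' (aeval x (X i)) = _
    rw [aeval_X, hσ]
  let M : Fin N → κ → B' := fun j i => pd i (algebraMap B B' (a j))
  have hM : ∀ i i', M (σ i) i' = if i = i' then 1 else 0 := fun i i' => by
    show e.coord i' (KaehlerDifferential.D k B' (algebraMap B B' (a (σ i)))) = _
    rw [← hxσ, show KaehlerDifferential.D k B' (algebraMap (MvPolynomial κ k) B' (X i)) = e i from
      (Module.Basis.mk_apply hli hsp.ge i).symm, Module.Basis.coord_apply, e.repr_self,
      Finsupp.single_apply]
  have hσinj : Function.Injective σ := fun i i' h => by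
    by_contra hne
    have h1 := hM i i
    rw [h, hM, if_pos rfl, if_neg fun h' => hne h'.symm] at h1
    exact zero_ne_one h1
  let τ0 := {j : Fin N // j ∉ Set.range σ}
  let τ := ULift.{u} τ0
  have hcard : Fintype.card κ + Fintype.card τ ≤ N := by
    have h1 : Fintype.card κ = Fintype.card {j : Fin N // j ∈ Set.range σ} :=
      Fintype.card_congr (Equiv.ofInjective σ hσinj)
    have h2 := Fintype.card_subtype_le (fun j : Fin N => j ∈ Set.range σ)
    rw [Fintype.card_ulift, Fintype.card_subtype_compl, h1]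
    simp only [Fintype.card_fin] at *
    omega
  let idx : {j : Fin N // j ∈ Set.range σ} → κ := fun j => (Equiv.ofInjective σ hσinj).symm j
  have hidx : ∀ j, σ (idx j) = j.1 := fun j => Equiv.apply_ofInjective_symm hσinj j
  let R := MvPolynomial τ B'
  let y : Fin N → R := fun j => if hj : j ∈ Set.range σ then
      -∑ t : τ, X t * C (M t.down.1 (idx ⟨j, hj⟩)) else X ⟨⟨j, hj⟩⟩
  have : Algebra.FiniteType k B' := Algebra.FiniteType.trans (S := B) inferInstance inferInstance
  have : Algebra.FiniteType k R := Algebra.FiniteType.trans (S := B') inferInstance inferInstance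
  obtain ⟨H, hH0, hH⟩ := exists_ne_zero_fibre_finite y fun P hP =>
    trdeg_chart_le (k := k) (B := B') (τ := τ) (N := N) (le_trans (Nat.le_add_right _ _) hcard) hcard P
  refine ⟨b, H, hb, hH0, fun c hc => ?_⟩
  obtain ⟨hfin, hmod⟩ := hH c hc
  let ev : R →ₐ[B'] B' := aeval fun t => algebraMap k B' (c t.down.1)
  have key : ∀ q : Ideal B, q.IsPrime → b ∉ q → IsCrit k (∑ j, c j • a j) q →
      ∃ Q : Ideal R, Q.IsPrime ∧ (∀ i, y i - algebraMap k R (c i) ∈ Q) ∧
        Q.comap ((algebraMap B' R).comp (algebraMap B B')) = q := by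
    rintro q hq hbq ⟨K, _, _, _, _, hker, hcrit⟩
    have hbK : IsUnit (algebraMap B K b) := isUnit_iff_ne_zero.2 fun h0 => hbq (hker ▸ h0)
    let χ : B' →+* K := IsLocalization.Away.lift b hbK
    have hχ : ∀ z, χ (algebraMap B B' z) = algebraMap B K z := fun z => IsLocalization.Away.lift_eq b hbK z
    letI : Algebra B' K := χ.toAlgebra
    have : IsScalarTower k B' K := IsScalarTower.of_algebraMap_eq fun r => by
      show _ = χ _
      rw [IsScalarTower.algebraMap_apply k B B', hχ, ← IsScalarTower.algebraMap_apply]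
    have : IsScalarTower B B' K := IsScalarTower.of_algebraMap_eq fun r => (hχ r).symm
    have hsum : ∀ i, χ (∑ j, algebraMap k B' (c j) * M j i) = 0 := by
      intro i
      have h := hcrit (((Algebra.linearMap B' K).compDer (pd i)).compAlgebraMap B)
      refine Eq.trans ?_ h
      show χ _ = χ (pd i (algebraMap B B' (∑ j, c j • a j)))
      congr 1
      rw [map_sum, map_sum]
      refine Finset.sum_congr rfl fun j _ => ?_
      rw [← Algebra.smul_def, ← IsScalarTower.coe_toAlgHom' k B B', map_smul, Derivation.map_smul]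
      rfl
    let ψ : R →+* K := χ.comp ev.toRingHom
    refine ⟨RingHom.ker ψ, RingHom.ker_isPrime ψ, fun j => ?_, ?_⟩
    · show χ (ev (y j - algebraMap k R (c j))) = 0
      rw [map_sub, IsScalarTower.algebraMap_apply k B' R, AlgHom.commutes]
      by_cases hj : j ∈ Set.range σ
      · rw [show y j = -∑ t : τ, X t * C (M t.down.1 (idx ⟨j, hj⟩)) from dif_pos hj, map_neg, map_sum]
        have hsplit : (∑ l : {l // l ∈ Set.range σ}, algebraMap k B' (c l.1) * M l.1 (idx ⟨j, hj⟩)) +
            (∑ l : {l // l ∉ Set.range σ}, algebraMap k B' (c l.1) * M l.1 (idx ⟨j, hj⟩)) =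
              ∑ l, algebraMap k B' (c l) * M l (idx ⟨j, hj⟩) := by
          convert Fintype.sum_subtype_add_sum_subtype (fun j => j ∈ Set.range σ)
            (fun l => algebraMap k B' (c l) * M l (idx ⟨j, hj⟩))
        have h0 := hsum (idx ⟨j, hj⟩)
        rw [← hsplit] at h0
        have h1 : (∑ l : {l // l ∈ Set.range σ}, algebraMap k B' (c l.1) * M l.1 (idx ⟨j, hj⟩)) =
            algebraMap k B' (c j) := by
          rw [Finset.sum_eq_single ⟨j, hj⟩]
          · have h3 := hM (idx ⟨j, hj⟩) (idx ⟨j, hj⟩)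
            rw [hidx, if_pos rfl] at h3
            show algebraMap k B' (c j) * M j (idx ⟨j, hj⟩) = _
            rw [h3, mul_one]
          · rintro ⟨_, i, rfl⟩ _ hne
            rw [hM, if_neg, mul_zero]
            rintro rfl
            exact hne (Subtype.ext (hidx ⟨j, hj⟩))
          · exact fun h => absurd (Finset.mem_univ _) h
        rw [h1] at h0
        have h2 : (∑ t : τ, ev (X t * C (M t.down.1 (idx ⟨j, hj⟩)))) =
            ∑ l : {l // l ∉ Set.range σ}, algebraMap k B' (c l.1) * M l.1 (idx ⟨j, hj⟩) :=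
          Fintype.sum_equiv Equiv.ulift _ _ fun t => by
            rw [map_mul, aeval_X, aeval_C]; rfl
        rw [map_add] at h0
        rw [h2, map_sub, map_neg, Algebra.algebraMap_self, RingHom.id_apply]
        linear_combination -h0
      · rw [show y j = X ⟨⟨j, hj⟩⟩ from dif_neg hj, aeval_X, Algebra.algebraMap_self, RingHom.id_apply,
          sub_self, map_zero]
    · rw [← hker]
      ext z
      show χ (ev (algebraMap B' R (algebraMap B B' z))) = 0 ↔ _
      rw [AlgHom.commutes, Algebra.algebraMap_self, RingHom.id_apply, hχ]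
      rfl
  refine ⟨?_, fun q hq hbq hc' => ?_⟩
  · refine (hfin.image fun Q => Q.comap ((algebraMap B' R).comp (algebraMap B B'))).subset ?_
    rintro q ⟨hq, hbq, hc'⟩
    obtain ⟨Q, hQ, hmem, he⟩ := key q hq hbq hc'
    exact ⟨Q, ⟨hQ, hmem⟩, he⟩
  · obtain ⟨Q, hQ, hmem, he⟩ := key q hq hbq hc'
    have := hmod Q hQ hmem
    have : Q.IsPrime := hQ
    let g : B →ₐ[k] R ⧸ Q := (Ideal.Quotient.mkₐ k Q).comp
      ((IsScalarTower.toAlgHom k B' R).comp (IsScalarTower.toAlgHom k B B'))
    have hg : RingHom.ker g.toRingHom = q := by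
      rw [← he, show g.toRingHom = (Ideal.Quotient.mk Q).comp ((algebraMap B' R).comp (algebraMap B B')) from rfl,
        ← RingHom.comap_ker, Ideal.mk_ker]
    let g' : (B ⧸ q) →ₐ[k] R ⧸ Q := Ideal.Quotient.liftₐ q g fun z hz => by
      rw [← hg] at hz; exact hz
    have hg' : Function.Injective g' := by
      refine (injective_iff_map_eq_zero g').2 fun z hz => ?_
      obtain ⟨z, rfl⟩ := Ideal.Quotient.mk_surjective z
      exact Ideal.Quotient.eq_zero_iff_mem.2 (hg ▸ (hz : g z = 0))
    have : Module.Finite k (B ⧸ q) := .of_injective g'.toLinearMap hg'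
    have : IsArtinianRing (B ⧸ q) := IsArtinianRing.of_finite k _
    exact Ideal.Quotient.maximal_of_isField q (IsArtinianRing.isField_of_isDomain _)

/-- On a smooth algebra the critical locus of a generic linear form in detecting functions is a
finite set of maximal ideals. -/
theorem exists_crit_finite {k B : Type u} [Field k] [CommRing B] [Algebra k B]
    [Algebra.Smooth k B] {N : ℕ} (a : Fin N → B)
    (hdet : ∀ (q : Ideal B) [q.IsPrime] (D : Derivation k B q.ResidueField),
      (∀ j, D (a j) = 0) → D = 0) :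
    ∃ H : MvPolynomial (Fin N) k, H ≠ 0 ∧ ∀ c : Fin N → k, eval c H ≠ 0 →
      {q : Ideal B | q.IsPrime ∧ IsCrit k (∑ j, c j • a j) q}.Finite ∧
      ∀ q : Ideal B, q.IsPrime → IsCrit k (∑ j, c j • a j) q → q.IsMaximal := by
  classical
  choose b H hb hH0 hH using fun q : PrimeSpectrum B => exists_chart_crit_finite a hdet q.asIdeal
  obtain ⟨s, hs⟩ := isCompact_univ.elim_finite_subcover
    (fun q => (PrimeSpectrum.basicOpen (b q) : Set (PrimeSpectrum B)))
    (fun q => (PrimeSpectrum.basicOpen (b q)).2) fun q _ => Set.mem_iUnion.2 ⟨q, hb q⟩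
  refine ⟨∏ q ∈ s, H q, Finset.prod_ne_zero_iff.2 fun q _ => hH0 q, fun c hc => ?_⟩
  rw [map_prod, Finset.prod_ne_zero_iff] at hc
  have hcov : ∀ p : Ideal B, p.IsPrime → ∃ q ∈ s, b q ∉ p := fun p hp => by
    obtain ⟨q, hq, hm⟩ := Set.mem_iUnion₂.1 (hs (Set.mem_univ (⟨p, hp⟩ : PrimeSpectrum B)))
    exact ⟨q, hq, hm⟩
  refine ⟨?_, fun p hp hc' => ?_⟩
  · refine (s.finite_toSet.biUnion fun q hq => (hH q c (hc q hq)).1).subset ?_
    rintro p ⟨hp, hc'⟩
    obtain ⟨q, hq, hm⟩ := hcov p hp
    exact Set.mem_iUnion₂.2 ⟨q, hq, hp, hm, hc'⟩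
  · obtain ⟨q, hq, hm⟩ := hcov p hp
    exact (hH q c (hc q hq)).2 p hp hm hc'

end Groth.MovLem.GenCoord
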