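import Mathlib
import Groth.Agent.SmoothSlice.Coords

/-!
# A function with non-zero differential is a smooth coordinate; points without tangent directions
-/

set_option autoImplicit false
universe u

open TensorProduct Polynomial

namespace Groth.MovLem.GenCoord

/-- If `d g` is non-zero at a smooth point, `T ↦ g` is smooth there. -/
theorem isSmoothAt_polynomial {R B : Type u} [CommRing R] [CommRing B] [Algebra R B]
    [Algebra R[X] B] [IsScalarTower R R[X] B] [Algebra.EssFiniteType R B]
    (q : Ideal B) [q.IsPrime] [Algebra.IsSmoothAt R q]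
    (D : Derivation R B q.ResidueField) (hD : D (algebraMap R[X] B X) ≠ 0) :
    Algebra.IsSmoothAt R[X] q := by
  let L := Localization.AtPrime q
  let K := q.ResidueField
  let g := algebraMap R[X] B X
  have : Algebra.FormallySmooth R L := ‹Algebra.IsSmoothAt R q›
  have : Algebra.EssFiniteType R L := Algebra.EssFiniteType.comp R B L
  have : Module.Projective L Ω[L⁄R] := inferInstance
  have hbc : IsBaseChange L (KaehlerDifferential.map R R B L) :=
    IsLocalizedModule.isBaseChange q.primeCompl L _
  let ψ : Ω[L⁄R] →ₗ[L] K := hbc.lift D.liftKaehlerDifferential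
  have hψ : ∀ b : B, ψ (KaehlerDifferential.D R L (algebraMap B L b)) = D b := fun b => by
    rw [← KaehlerDifferential.map_D R R B L, hbc.lift_eq, Derivation.liftKaehlerDifferential_comp_D]
  obtain ⟨φ, hφ⟩ := Module.projective_lifting_property (Algebra.linearMap L K) ψ
    IsLocalRing.residue_surjective
  let dg := KaehlerDifferential.D R L (algebraMap B L g)
  have hu : IsUnit (φ dg) := by
    by_contra hn
    have h0 : algebraMap L K (φ dg) = 0 := (IsLocalRing.residue_eq_zero_iff _).2 hn
    exact hD ((hψ g).symm.trans ((LinearMap.congr_fun hφ dg).symm.trans h0))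
  obtain ⟨v, hv⟩ := hu
  let φ' : Ω[L⁄R] →ₗ[L] L := (↑v⁻¹ : L) • φ
  have hφ' : φ' dg = 1 := by
    show (↑v⁻¹ : L) * φ dg = 1
    rw [← hv, Units.inv_mul]
  let m := KaehlerDifferential.mapBaseChange R R[X] L
  let dX : L ⊗[R[X]] Ω[R[X]⁄R] := 1 ⊗ₜ KaehlerDifferential.D R R[X] X
  have hgen : ∀ z : L ⊗[R[X]] Ω[R[X]⁄R], ∃ a : L, z = a • dX := by
    intro z
    induction z using TensorProduct.induction_on with
    | zero => exact ⟨0, (zero_smul L dX).symm⟩
    | add x y hx hy =>
      obtain ⟨a, rfl⟩ := hx; obtain ⟨b, rfl⟩ := hy; exact ⟨a + b, (add_smul a b dX).symm⟩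
    | tmul a ω =>
      have hω : KaehlerDifferential.polynomialEquiv R ω • KaehlerDifferential.D R R[X] X = ω := by
        rw [← KaehlerDifferential.polynomialEquiv_symm, LinearEquiv.symm_apply_apply]
      refine ⟨algebraMap R[X] L (KaehlerDifferential.polynomialEquiv R ω) * a, ?_⟩
      conv_lhs => rw [← hω, TensorProduct.tmul_smul, TensorProduct.smul_tmul', Algebra.smul_def]
      rw [TensorProduct.smul_tmul', smul_eq_mul, mul_one]
  have hmX : m dX = dg := by
    show KaehlerDifferential.mapBaseChange R R[X] L (1 ⊗ₜ KaehlerDifferential.D R R[X] X) = dg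
    rw [KaehlerDifferential.mapBaseChange_tmul, one_smul, KaehlerDifferential.map_D]
    exact congrArg _ (IsScalarTower.algebraMap_apply R[X] B L X)
  have hm : ∀ a : L, m (a • dX) = a • dg := fun a => by rw [map_smul, hmX]
  have hinj : Function.Injective m := by
    refine (injective_iff_map_eq_zero m).2 fun z hz => ?_
    obtain ⟨a, rfl⟩ := hgen z
    rw [hm] at hz
    have ha := congrArg φ' hz
    rw [map_smul, hφ', map_zero, smul_eq_mul, mul_one] at ha
    rw [ha, zero_smul]
  let p : Ω[L⁄R] →ₗ[L] Ω[L⁄R] := LinearMap.id - φ'.smulRight dg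
  have hp : ∀ z, p z = z - φ' z • dg := fun z => rfl
  let s := KaehlerDifferential.map R R[X] L L
  have hs : Function.Surjective s := KaehlerDifferential.map_surjective R R[X] L
  have hker : LinearMap.ker s ≤ LinearMap.ker p := by
    intro z hz
    obtain ⟨w, rfl⟩ := (KaehlerDifferential.exact_mapBaseChange_map R R[X] L z).1 hz
    obtain ⟨a, rfl⟩ := hgen w
    rw [LinearMap.mem_ker]
    show p (m (a • dX)) = 0
    rw [hm, hp, map_smul, hφ', smul_eq_mul, mul_one, sub_self]
  have : Module.Projective L Ω[L⁄R[X]] := by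
    let i : Ω[L⁄R[X]] →ₗ[L] Ω[L⁄R] :=
      (LinearMap.ker s).liftQ p hker ∘ₗ (s.quotKerEquivOfSurjective hs).symm.toLinearMap
    refine Module.Projective.of_split i s (LinearMap.ext fun y => ?_)
    obtain ⟨z, rfl⟩ := hs y
    show s (i (s z)) = s z
    have : i (s z) = p z := by
      show (LinearMap.ker s).liftQ p hker ((s.quotKerEquivOfSurjective hs).symm (s z)) = p z
      have e' : (s.quotKerEquivOfSurjective hs).symm (s z) = Submodule.Quotient.mk z :=
        (LinearEquiv.symm_apply_eq _).2 (LinearMap.quotKerEquivOfSurjective_apply_mk s hs z).symm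
      rw [e']
      rfl
    rw [this, hp, map_sub, map_smul]
    have : s dg = 0 := (KaehlerDifferential.exact_mapBaseChange_map R R[X] L dg).2 ⟨dX, hmX⟩
    rw [this, smul_zero, sub_zero]
  have : Subsingleton (Algebra.H1Cotangent R[X] L) := by
    refine ⟨fun a b => ?_⟩
    suffices H : ∀ z : Algebra.H1Cotangent R[X] L, z = 0 by rw [H a, H b]
    intro z
    have hz : Algebra.H1Cotangent.δ R R[X] L z = 0 :=
      hinj (((Algebra.H1Cotangent.exact_δ_mapBaseChange R R[X] L) _).mpr ⟨z, rfl⟩ |>.trans
        (map_zero _).symm)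
    obtain ⟨w, rfl⟩ := (Algebra.H1Cotangent.exact_map_δ R R[X] L z).mp hz
    rw [Subsingleton.elim w 0, map_zero]
  exact ⟨inferInstance, inferInstance⟩

/-- A prime without tangent directions is maximal and isolated. -/
theorem isolated_of_derivation_eq_zero {k B : Type u} [Field k] [CommRing B] [Algebra k B]
    [Algebra.FiniteType k B] (q : Ideal B) [q.IsPrime]
    (h : ∀ D : Derivation k B q.ResidueField, D = 0) :
    q.IsMaximal ∧ ∃ b ∉ q, ∀ p : Ideal B, p.IsPrime → b ∉ p → p = q := by
  classical
  have hspan := Groth.SmoothSlice.span_D_eq_top (A := k) q ∅ fun D _ => h D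
  have hL : Subsingleton Ω[Localization.AtPrime q⁄k] := by
    refine (Submodule.subsingleton_iff (Localization.AtPrime q)).1 (subsingleton_of_bot_eq_top ?_)
    rw [← hspan, eq_comm, Submodule.span_eq_bot]
    rintro _ ⟨⟨x, hx⟩, _⟩
    exact absurd hx (Set.notMem_empty x)
  have hbc : IsLocalizedModule q.primeCompl (KaehlerDifferential.map k k B (Localization.AtPrime q)) :=
    inferInstance
  obtain ⟨s, hs⟩ : (⊤ : Submodule B Ω[B⁄k]).FG := Module.Finite.fg_top
  choose c hc0 hc using fun m : Ω[B⁄k] => (IsLocalizedModule.eq_zero_iff q.primeCompl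
    (KaehlerDifferential.map k k B (Localization.AtPrime q))).1 (Subsingleton.elim (α := Ω[Localization.AtPrime q⁄k])
      (KaehlerDifferential.map k k B (Localization.AtPrime q) m) 0) |>.imp fun a ha => And.intro a.2 ha
  let f : B := ∏ m ∈ s, (c m : B)
  have hf : f ∉ q := fun hf => by
    obtain ⟨m, _, hm⟩ := (Ideal.IsPrime.prod_mem_iff).1 hf
    exact hc0 m hm
  have hsupp : (PrimeSpectrum.basicOpen f : Set (PrimeSpectrum B)) ⊆ Algebra.unramifiedLocus k B := by
    rw [Algebra.unramifiedLocus_eq_compl_support]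
    intro p hp hsup
    rw [Module.support_eq_zeroLocus] at hsup
    refine hp (hsup (?_ : f ∈ Module.annihilator B Ω[B⁄k]))
    rw [Module.mem_annihilator]
    intro z
    have hz : z ∈ Submodule.span B (s : Set Ω[B⁄k]) := hs ▸ Submodule.mem_top
    induction hz using Submodule.span_induction with
    | mem m hm =>
      obtain ⟨e, he⟩ := Finset.dvd_prod_of_mem (fun m => (c m : B)) (Finset.mem_coe.1 hm)
      show f • m = 0
      rw [show f = e * c m from he.trans (mul_comm _ _), mul_smul, ← Submonoid.smul_def, hc m, smul_zero]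
    | zero => exact smul_zero f
    | add x y _ _ hx hy => rw [smul_add, hx, hy, add_zero]
    | smul a x _ hx => rw [smul_comm, hx, smul_zero]
  have : Algebra.FormallyUnramified k (Localization.Away f) :=
    (Algebra.basicOpen_subset_unramifiedLocus_iff).1 hsupp
  have : Algebra.EssFiniteType k (Localization.Away f) :=
    Algebra.EssFiniteType.comp k B (Localization.Away f)
  have : Module.Finite k (Localization.Away f) := Algebra.FormallyUnramified.finite_of_free k _
  have : IsArtinianRing (Localization.Away f) := IsArtinianRing.of_finite k _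
  let Bf := Localization.Away f
  let e := IsLocalization.orderIsoOfPrime (Submonoid.powers f) Bf
  have hdisj : ∀ p : Ideal B, p.IsPrime → f ∉ p → Disjoint (Submonoid.powers f : Set B) p := by
    intro p hp hfp
    rw [Set.disjoint_left]
    rintro _ ⟨n, rfl⟩ hn
    exact hfp (hp.mem_of_pow_mem n hn)
  have hmax : ∀ p : Ideal B, p.IsPrime → f ∉ p → p.IsMaximal := by
    intro p hp hfp
    have hP := (e.symm ⟨p, hp, hdisj p hp hfp⟩).2
    have hcomap : Ideal.comap (algebraMap B Bf) (e.symm ⟨p, hp, hdisj p hp hfp⟩).1 = p :=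
      congrArg Subtype.val (e.apply_symm_apply ⟨p, hp, hdisj p hp hfp⟩)
    let P := (e.symm ⟨p, hp, hdisj p hp hfp⟩).1
    have : P.IsPrime := hP
    let g : B →ₐ[k] Bf ⧸ P := (Ideal.Quotient.mkₐ k P).comp (IsScalarTower.toAlgHom k B Bf)
    have hg : RingHom.ker g.toRingHom = p := by
      rw [show g.toRingHom = (Ideal.Quotient.mk P).comp (algebraMap B Bf) from rfl,
        ← RingHom.comap_ker, Ideal.mk_ker]
      exact hcomap
    have : Module.Finite k g.range := .of_injective g.range.val.toLinearMap Subtype.val_injective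
    have : IsDomain g.range := inferInstance
    have hr : IsField g.range := isField_of_isIntegral_of_isField' (R := k) (Field.toIsField k)
    let _ := hr.toField
    rw [← hg, show RingHom.ker g.toRingHom = RingHom.ker g.rangeRestrict.toRingHom from
      Ideal.ext fun x => by simp [RingHom.mem_ker, Subtype.ext_iff]]
    exact RingHom.ker_isMaximal_of_surjective _ g.rangeRestrict_surjective
  have hfin : {p : Ideal B | p.IsPrime ∧ f ∉ p}.Finite := by
    refine (Set.finite_range fun P : PrimeSpectrum Bf => Ideal.comap (algebraMap B Bf) P.asIdeal).subset ?_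
    rintro p ⟨hp, hfp⟩
    exact ⟨⟨_, (e.symm ⟨p, hp, hdisj p hp hfp⟩).2⟩,
      congrArg Subtype.val (e.apply_symm_apply ⟨p, hp, hdisj p hp hfp⟩)⟩
  have hqmax := hmax q ‹_› hf
  have hex : ∀ p ∈ hfin.toFinset.erase q, ∃ a ∈ p, a ∉ q := by
    intro p hp
    rw [Finset.mem_erase, Set.Finite.mem_toFinset] at hp
    by_contra hall
    push Not at hall
    exact hp.1 ((hmax p hp.2.1 hp.2.2).eq_of_le hqmax.ne_top hall)
  choose a ha haq using hex
  refine ⟨hqmax, f * ∏ p : ↥(hfin.toFinset.erase q), a p.1 p.2, ?_, ?_⟩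
  · intro hm
    rcases Ideal.IsPrime.mem_or_mem ‹_› hm with hm | hm
    · exact hf hm
    · obtain ⟨p, _, hm⟩ := (Ideal.IsPrime.prod_mem_iff).1 hm
      exact haq p.1 p.2 hm
  · intro p hp hb
    by_contra hne
    have hfp : f ∉ p := fun hm => hb (Ideal.mul_mem_right _ _ hm)
    have hmem : p ∈ hfin.toFinset.erase q := Finset.mem_erase.2 ⟨hne, hfin.mem_toFinset.2 ⟨hp, hfp⟩⟩
    exact hb (Ideal.mul_mem_left p f ((Ideal.IsPrime.prod_mem_iff).2 ⟨⟨p, hmem⟩, Finset.mem_univ _, ha p hmem⟩))

end Groth.MovLem.GenCoord
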