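import Mathlib
import Groth.Agent.MovLem.SmoothCoord
import Groth.Agent.MovLem.CriticalChart

/-!
# The morphism to the affine line given by a function, and its smooth locus
-/

set_option autoImplicit false
universe u

open CategoryTheory AlgebraicGeometry Polynomial

namespace Groth.MovLem.GenCoord

theorem mem_smoothLocus_Spec_map_iff {R S : CommRingCat.{u}} (ψ : R ⟶ S)
    [LocallyOfFinitePresentation (Spec.map ψ)] (q : Spec S) :
    letI := ψ.hom.toAlgebra
    q ∈ (Spec.map ψ).smoothLocus ↔ Algebra.IsSmoothAt R (PrimeSpectrum.asIdeal q) := by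
  let := ψ.hom.toAlgebra
  let p := (PrimeSpectrum.asIdeal q).comap ψ.hom
  refine Scheme.Hom.mem_smoothLocus.trans ((RingHom.FormallySmooth.respectsIso.arrow_mk_iso_iff
    (Scheme.arrowStalkMapSpecIso ψ q)).trans ?_)
  have : (PrimeSpectrum.asIdeal q).LiesOver p := ⟨rfl⟩
  let := Localization.AtPrime.algebraOfLiesOver p (PrimeSpectrum.asIdeal q)
  have : Algebra.FormallyEtale R (Localization.AtPrime p) :=
    Algebra.FormallyEtale.of_isLocalization p.primeCompl
  refine Iff.trans ?_ (Algebra.FormallySmooth.iff_restrictScalars (R := R) (A := Localization.AtPrime p)).symm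
  rw [← RingHom.formallySmooth_algebraMap]
  rfl

variable {k : Type u} [Field k] {X : Scheme.{u}} (f : X ⟶ Spec (CommRingCat.of k))

theorem exists_algebra_fromSpec {V : X.Opens} (hV : IsAffineOpen V) :
    ∃ _ : Algebra k Γ(X, V),
      Spec.map (CommRingCat.ofHom (algebraMap k Γ(X, V))) = hV.fromSpec ≫ f :=
  ⟨(Spec.preimage (hV.fromSpec ≫ f)).hom.toAlgebra, Spec.map_preimage (hV.fromSpec ≫ f)⟩

section

variable {V : X.Opens} (hV : IsAffineOpen V) [Algebra k Γ(X, V)]

/-- The morphism to the affine line given by a function. -/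
noncomputable def coordMor (g : Γ(X, V)) : (V : Scheme.{u}) ⟶ Spec (CommRingCat.of k[X]) :=
  hV.isoSpec.hom ≫ Spec.map (CommRingCat.ofHom (aeval (R := k) g).toRingHom)

theorem fromSpec_isoSpec_hom (y : V) : hV.fromSpec (hV.isoSpec.hom y) = y.1 := by
  rw [← Scheme.Hom.comp_apply, ← IsAffineOpen.isoSpec_inv_ι, Iso.hom_inv_id_assoc]
  rfl

theorem mem_basicOpen_iff (g : Γ(X, V)) (y : V) :
    y.1 ∈ X.basicOpen g ↔ g ∉ (hV.isoSpec.hom y).asIdeal := by
  conv_lhs => rw [← fromSpec_isoSpec_hom hV y]
  show hV.isoSpec.hom y ∈ hV.fromSpec ⁻¹ᵁ X.basicOpen g ↔ _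
  rw [hV.fromSpec_preimage_basicOpen]
  rfl

theorem coordMor_apply_mem_iff (g : Γ(X, V)) (y : V) :
    (Polynomial.X : k[X]) ∈ (coordMor (k := k) hV g y).asIdeal ↔ g ∈ (hV.isoSpec.hom y).asIdeal := by
  show aeval g (Polynomial.X : k[X]) ∈ (hV.isoSpec.hom y).asIdeal ↔ _
  rw [aeval_X]

theorem coordMor_appTop (g : Γ(X, V)) :
    V.topIso.hom ((coordMor (k := k) hV g).appTop
      ((Scheme.ΓSpecIso (CommRingCat.of k[X])).inv Polynomial.X)) = g := by
  unfold coordMor
  rw [IsAffineOpen.isoSpec_hom, Scheme.Hom.comp_appTop]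
  have h := Scheme.ΓSpecIso_inv_naturality (CommRingCat.ofHom (aeval (R := k) g).toRingHom)
  have h1 := ConcreteCategory.congr_hom h (Polynomial.X : k[X])
  rw [CategoryTheory.comp_apply, CategoryTheory.comp_apply] at h1
  rw [CategoryTheory.comp_apply, ← h1, Scheme.Opens.toSpecΓ_appTop]
  simp only [CategoryTheory.comp_apply]
  show (V.topIso.inv ≫ V.topIso.hom) (((Scheme.ΓSpecIso (CommRingCat.of Γ(X, V))).inv ≫
    (Scheme.ΓSpecIso (CommRingCat.of Γ(X, V))).hom) _) = g
  rw [Iso.inv_hom_id, Iso.inv_hom_id]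
  exact aeval_X g

variable (hψ : Spec.map (CommRingCat.ofHom (algebraMap k Γ(X, V))) = hV.fromSpec ≫ f)

include hψ

theorem coordMor_comp (g : Γ(X, V)) :
    coordMor (k := k) hV g ≫ Spec.map (CommRingCat.ofHom (Polynomial.C : k →+* k[X])) = V.ι ≫ f := by
  rw [coordMor, Category.assoc, ← Spec.map_comp, ← CommRingCat.ofHom_comp,
    show (aeval (R := k) g).toRingHom.comp Polynomial.C = algebraMap k Γ(X, V) from
      RingHom.ext fun r => aeval_C g r,
    hψ, ← IsAffineOpen.isoSpec_inv_ι, Category.assoc, Iso.hom_inv_id_assoc]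

theorem finiteType_of_fromSpec [LocallyOfFiniteType f] : Algebra.FiniteType k Γ(X, V) := by
  have : LocallyOfFiniteType (Spec.map (CommRingCat.ofHom (algebraMap k Γ(X, V)))) := by
    rw [hψ]; infer_instance
  have h := (HasRingHomProperty.Spec_iff (P := @LocallyOfFiniteType)).mp this
  exact RingHom.finiteType_algebraMap.1 h

theorem locallyOfFinitePresentation_coordMor [LocallyOfFiniteType f] (g : Γ(X, V)) :
    LocallyOfFinitePresentation (coordMor (k := k) hV g) := by
  have := finiteType_of_fromSpec f hV hψ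
  have : Algebra.FinitePresentation k Γ(X, V) :=
    (Algebra.FinitePresentation.of_finiteType (R := k)).1 inferInstance
  letI : Algebra k[X] Γ(X, V) := (aeval (R := k) g).toRingHom.toAlgebra
  have : IsScalarTower k k[X] Γ(X, V) :=
    IsScalarTower.of_algebraMap_eq fun r => (aeval_C g r).symm
  have h : Algebra.FinitePresentation k[X] Γ(X, V) :=
    Algebra.FinitePresentation.of_restrict_scalars_finitePresentation k k[X] _
  have : LocallyOfFinitePresentation (Spec.map (CommRingCat.ofHom (aeval (R := k) g).toRingHom)) :=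
    (LocallyOfFinitePresentation.SpecMap_iff _).2 (RingHom.finitePresentation_algebraMap.2 h)
  exact inferInstanceAs (LocallyOfFinitePresentation (_ ≫ _))

theorem isSmoothAt_of_mem_smoothLocus [LocallyOfFiniteType f] [LocallyOfFinitePresentation f]
    (p : Spec Γ(X, V)) (hp : hV.fromSpec p ∈ f.smoothLocus) :
    Algebra.IsSmoothAt k (PrimeSpectrum.asIdeal p) := by
  let ψ : CommRingCat.of k ⟶ Γ(X, V) := CommRingCat.ofHom (algebraMap k Γ(X, V))
  have : LocallyOfFinitePresentation (Spec.map ψ) := by rw [hψ]; infer_instance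
  have h : p ∈ (Spec.map ψ).smoothLocus := by
    simp only [ψ, hψ, ← Scheme.Hom.preimage_smoothLocus_eq]
    exact hp
  have h1 := (mem_smoothLocus_Spec_map_iff ψ p).1 h
  have he : ψ.hom.toAlgebra = (inferInstance : Algebra k Γ(X, V)) :=
    Algebra.algebra_ext _ _ fun r => rfl
  rw [he] at h1
  exact h1

theorem mem_smoothLocus_coordMor [LocallyOfFiniteType f] [LocallyOfFinitePresentation f]
    (g : Γ(X, V)) [LocallyOfFinitePresentation (coordMor (k := k) hV g)] (y : V) (hy : y.1 ∈ f.smoothLocus)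
    (D : Derivation k Γ(X, V) (hV.isoSpec.hom y).asIdeal.ResidueField) (hD : D g ≠ 0) :
    y ∈ (coordMor (k := k) hV g).smoothLocus := by
  have := finiteType_of_fromSpec f hV hψ
  letI : Algebra k[X] Γ(X, V) := (aeval (R := k) g).toRingHom.toAlgebra
  have : IsScalarTower k k[X] Γ(X, V) :=
    IsScalarTower.of_algebraMap_eq fun r => (aeval_C g r).symm
  have : Algebra.FinitePresentation k Γ(X, V) :=
    (Algebra.FinitePresentation.of_finiteType (R := k)).1 inferInstance
  have h : Algebra.FinitePresentation k[X] Γ(X, V) :=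
    Algebra.FinitePresentation.of_restrict_scalars_finitePresentation k k[X] _
  have : LocallyOfFinitePresentation (Spec.map (CommRingCat.ofHom (aeval (R := k) g).toRingHom)) :=
    (LocallyOfFinitePresentation.SpecMap_iff _).2 (RingHom.finitePresentation_algebraMap.2 h)
  have := isSmoothAt_of_mem_smoothLocus f hV hψ (hV.isoSpec.hom y)
    (by rw [fromSpec_isoSpec_hom]; exact hy)
  have hsm : Algebra.IsSmoothAt k[X] (hV.isoSpec.hom y).asIdeal :=
    isSmoothAt_polynomial (R := k) _ D
      (by rwa [show algebraMap k[X] Γ(X, V) Polynomial.X = g from aeval_X g])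
  simp only [coordMor, ← Scheme.Hom.preimage_smoothLocus_eq]
  exact (mem_smoothLocus_Spec_map_iff _ _).2 hsm

end

theorem comap_isMaximal {A B : Type u} [CommRing A] [CommRing B] [Algebra k A] [Algebra k B]
    [Algebra.FiniteType k B] (φ : A →ₐ[k] B) (q : Ideal B) [q.IsMaximal] :
    (q.comap φ.toRingHom).IsMaximal := by
  let _ := Ideal.Quotient.field q
  have : Module.Finite k (B ⧸ q) := finite_of_finite_type_of_isJacobsonRing k (B ⧸ q)
  let p := q.comap φ.toRingHom
  let g : (A ⧸ p) →ₐ[k] B ⧸ q := Ideal.quotientMapₐ q φ le_rfl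
  have hg : Function.Injective g := Ideal.quotientMap_injective
  have : Module.Finite k (A ⧸ p) := .of_injective g.toLinearMap hg
  have : IsArtinianRing (A ⧸ p) := IsArtinianRing.of_finite k _
  exact Ideal.Quotient.maximal_of_isField p (IsArtinianRing.isField_of_isDomain _)

end Groth.MovLem.GenCoord
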